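import Cfsg.Agent.Lib.FusionSupersoluble.System

/-
Invariant chains with cyclic steps for abelian `p'`-groups of exponent dividing `p - 1`, and the construction of
supersoluble systems from them.

Main results (namespace `Cfsg.Agent.FusionSupersoluble`):
* `exists_eigen` : an endomorphism `f` with `f^(p-1) = 1` of an elementary abelian `p`-group has an eigenvector;
* `exists_common_eigen` : commuting endomorphisms of that kind have a common one in a central invariant subgroup;
* `exists_invariant_chain`;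
* `isSupersoluble_of_chain` : for `S` normal, a chain of `Aut_F(S)`-invariant subgroups gives supersolubility;
* `isSupersoluble_of_normal`.
-/

set_option autoImplicit false

namespace Cfsg.Agent.FusionSupersoluble

open Cfsg Cfsg.FusionSystem Cfsg.Agent.Fusion Cfsg.Agent.FusionChain

theorem exists_eigen {p : ℕ} [hp : Fact p.Prime] {V : Type*} [CommGroup V] (hexp : ∀ v : V, v ^ p = 1)
    (f : V →* V) (hf : ∀ v, (f : V → V)^[p - 1] v = v) {v : V} (hv : v ≠ 1) :
    ∃ (a : ℕ) (w : V), w ≠ 1 ∧ f w = w ^ a := by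
  classical
  let M := Additive V
  letI : Module (ZMod p) M := AddCommGroup.zmodModule (n := p) fun m => hexp (Additive.toMul m)
  let g : M →ₗ[ZMod p] M := f.toAdditive.toZModLinearMap p
  have hg : ∀ (j : ℕ) (x : M), (g : M → M)^[j] x = Additive.ofMul ((f : V → V)^[j] (Additive.toMul x)) := by
    intro j
    induction j with
    | zero => intro x; rfl
    | succ j ih =>
      intro x
      rw [Function.iterate_succ_apply', Function.iterate_succ_apply', ih]
      rfl
  let m : M := Additive.ofMul v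
  -- the eigencomponents of `m`
  let e : (ZMod p)ˣ → M := fun a => ∑ j ∈ Finset.range (p - 1), ((a⁻¹ : (ZMod p)ˣ) : ZMod p) ^ j • (g : M → M)^[j] m
  have hsum : ∑ a, e a = ((p - 1 : ℕ) : ZMod p) • m := by
    simp only [e]
    rw [Finset.sum_comm]
    simp only [← Finset.sum_smul]
    rw [Finset.sum_eq_single 0]
    · simp only [pow_zero, Function.iterate_zero, id_eq, Finset.sum_const, Finset.card_univ, ZMod.card_units, nsmul_one]
    · intro j hj hj0
      have hjp : j < p - 1 := Finset.mem_range.1 hj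
      have h1 : ∑ a : (ZMod p)ˣ, ((a⁻¹ : (ZMod p)ˣ) : ZMod p) ^ j = ∑ a : (ZMod p)ˣ, ((a : ZMod p) ^ j) :=
        Equiv.sum_comp (Equiv.inv (ZMod p)ˣ) (fun a : (ZMod p)ˣ => ((a : ZMod p) ^ j))
      rw [h1, FiniteField.sum_pow_units, if_neg, zero_smul]
      rw [ZMod.card]
      exact fun h => absurd (Nat.le_of_dvd (Nat.pos_of_ne_zero hj0) h) (not_le.2 hjp)
    · intro h
      exact absurd (Finset.mem_range.2 (Nat.sub_pos_of_lt hp.out.one_lt)) h
  obtain ⟨a, ha⟩ : ∃ a, e a ≠ 0 := by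
    by_contra hcon
    push_neg at hcon
    rw [Finset.sum_eq_zero fun a _ => hcon a, eq_comm, smul_eq_zero] at hsum
    rcases hsum with h | h
    · rw [ZMod.natCast_eq_zero_iff] at h
      exact absurd (Nat.le_of_dvd (Nat.sub_pos_of_lt hp.out.one_lt) h) (by have := hp.out.pos; omega)
    · exact hv (congrArg Additive.toMul h)
  have hga : g (e a) = (a : ZMod p) • e a := by
    set u : ZMod p := ((a⁻¹ : (ZMod p)ˣ) : ZMod p) with hu
    have hau : (a : ZMod p) * u = 1 := by rw [hu, ← Units.val_mul, mul_inv_cancel, Units.val_one]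
    have hend : u ^ (p - 1) • (g : M → M)^[p - 1] m = u ^ 0 • (g : M → M)^[0] m := by
      rw [hg, hf, hu, ← Units.val_pow_eq_pow_val, ZMod.units_pow_card_sub_one_eq_one]
      simp only [pow_zero, Units.val_one, Function.iterate_zero, id_eq, one_smul]
      rfl
    have hshift : ∑ j ∈ Finset.range (p - 1), u ^ (j + 1) • (g : M → M)^[j + 1] m =
        ∑ j ∈ Finset.range (p - 1), u ^ j • (g : M → M)^[j] m := by
      have h1 := Finset.sum_range_succ' (fun j => u ^ j • (g : M → M)^[j] m) (p - 1)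
      have h2 := Finset.sum_range_succ (fun j => u ^ j • (g : M → M)^[j] m) (p - 1)
      have h3 := h2.symm.trans h1
      rw [hend] at h3
      exact (add_right_cancel h3).symm
    simp only [e, map_sum, map_smul]
    rw [← hshift, Finset.smul_sum]
    refine Finset.sum_congr rfl fun j _ => ?_
    rw [smul_smul, pow_succ', ← mul_assoc, hau, one_mul, Function.iterate_succ_apply']
  refine ⟨(a : ZMod p).val, Additive.toMul (e a), fun h => ha (congrArg Additive.ofMul h), ?_⟩
  rw [← ZMod.natCast_zmod_val (a : ZMod p), Nat.cast_smul_eq_nsmul] at hga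
  exact congrArg Additive.toMul hga

/-- Commuting endomorphisms of exponent dividing `p - 1` fix a common cyclic subgroup of `W`. -/
theorem exists_common_eigen {p : ℕ} [Fact p.Prime] {Q : Type*} [Group Q] [Finite Q] (Φ : Set (Q →* Q))
    (hcomm : ∀ f ∈ Φ, ∀ g ∈ Φ, ∀ x, f (g x) = g (f x)) (hpow : ∀ f ∈ Φ, ∀ x, (f : Q → Q)^[p - 1] x = x)
    (W₀ : Subgroup Q) (h0 : W₀ ≠ ⊥) (hW : W₀ ≤ Subgroup.center Q) (hexp : ∀ w ∈ W₀, w ^ p = 1)
    (hinv : ∀ f ∈ Φ, ∀ w ∈ W₀, f w ∈ W₀) :
    ∃ w ∈ W₀, w ≠ 1 ∧ ∀ f ∈ Φ, f w ∈ Subgroup.zpowers w := by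
  let s : Set (Subgroup Q) := {W | W ≠ ⊥ ∧ W ≤ W₀ ∧ ∀ f ∈ Φ, ∀ w ∈ W, f w ∈ W}
  obtain ⟨W, ⟨hWne, hWle, hWinv⟩, hmin⟩ := s.toFinite.exists_minimal ⟨W₀, h0, le_rfl, hinv⟩
  obtain ⟨w, hw, hw1⟩ := W.bot_or_exists_ne_one.resolve_left hWne
  refine ⟨w, hWle hw, hw1, fun f hf => ?_⟩
  have hWc : ∀ x ∈ W, ∀ y : Q, x * y = y * x := fun x hx y => (Subgroup.mem_center_iff.1 (hW (hWle hx)) y).symm
  letI : CommGroup W := { (inferInstance : Group W) with mul_comm := fun x y => Subtype.ext (hWc x x.2 y) }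
  let f' : W →* W := MonoidHom.mk' (fun x => ⟨f x, hWinv f hf x x.2⟩) fun x y => Subtype.ext (map_mul f _ _)
  have hiter : ∀ (j : ℕ) (x : W), (((f' : W → W)^[j] x : W) : Q) = (f : Q → Q)^[j] x := by
    intro j
    induction j with
    | zero => intro x; rfl
    | succ j ih =>
      intro x
      rw [Function.iterate_succ_apply', Function.iterate_succ_apply', ← ih]
      rfl
  obtain ⟨a, u, hu1, hu⟩ := exists_eigen (p := p) (fun v : W => Subtype.ext (hexp v (hWle v.2))) f'
    (fun v => Subtype.ext ((hiter _ v).trans (hpow f hf v))) (v := ⟨w, hw⟩) fun h => hw1 (congrArg Subtype.val h)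
  let E : Subgroup Q :=
    { carrier := {x | x ∈ W ∧ f x = x ^ a}
      one_mem' := ⟨one_mem _, by simp⟩
      mul_mem' := fun {x y} hx hy => ⟨mul_mem hx.1 hy.1, by
        rw [map_mul, hx.2, hy.2, (show Commute x y from hWc x hx.1 y).mul_pow]⟩
      inv_mem' := fun {x} hx => ⟨inv_mem hx.1, by rw [map_inv, hx.2, inv_pow]⟩ }
  have hE : W ≤ E := hmin ⟨fun h => hu1 (Subtype.ext ?_), fun x hx => hWle hx.1, fun g hg x hx => ⟨hWinv g hg x hx.1, ?_⟩⟩
    fun x hx => hx.1
  · rw [(hE hw).2]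
    exact pow_mem (Subgroup.mem_zpowers w) a
  · have : (u : Q) ∈ E := ⟨u.2, congrArg Subtype.val hu⟩
    rw [h, Subgroup.mem_bot] at this
    exact this
  · rw [hcomm f hf g hg, hx.2, map_pow]

/-- An abelian group `H` of automorphisms of exponent dividing `p - 1` leaves invariant a chain with cyclic steps. -/
theorem exists_invariant_chain {p : ℕ} [Fact p.Prime] {G : Type*} [Group G] [Finite G] (hG : IsPGroup p G)
    (H : Subgroup (MulAut G)) (hcomm : ∀ a ∈ H, ∀ b ∈ H, a * b = b * a) (hexp : ∀ a ∈ H, a ^ (p - 1) = 1) :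
    ∃ (m : ℕ) (c : ℕ → Subgroup G), c 0 = ⊥ ∧ c m = ⊤ ∧
      (∀ i ≤ m, (c i).Normal ∧ ∀ a ∈ H, ∀ x ∈ c i, a x ∈ c i) ∧
      ∀ i < m, c i ≤ c (i + 1) ∧ ∃ x, c (i + 1) = c i ⊔ Subgroup.zpowers x := by
  suffices K : ∀ d, ∀ N : Subgroup G, Nat.card G ≤ Nat.card N + d → N.Normal →
      (∀ a ∈ H, ∀ x ∈ N, a x ∈ N) → ∃ (m : ℕ) (c : ℕ → Subgroup G), c 0 = N ∧ c m = ⊤ ∧
        (∀ i ≤ m, (c i).Normal ∧ ∀ a ∈ H, ∀ x ∈ c i, a x ∈ c i) ∧
        ∀ i < m, c i ≤ c (i + 1) ∧ ∃ x, c (i + 1) = c i ⊔ Subgroup.zpowers x from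
    K _ ⊥ (Nat.le_add_left _ _) inferInstance fun a _ x hx => by
      rw [Subgroup.mem_bot] at hx ⊢
      rw [hx, map_one]
  intro d
  induction d using Nat.strong_induction_on with
  | _ d ih =>
  intro N hd hN hinv
  by_cases hNt : N = ⊤
  · exact ⟨0, fun _ => N, rfl, hNt, fun i _ => ⟨hN, hinv⟩, fun i hi => absurd hi (Nat.not_lt_zero i)⟩
  let Q := G ⧸ N
  have : Nontrivial Q := QuotientGroup.nontrivial_iff.mpr hNt
  let Φ : Set (Q →* Q) := {f | ∃ a ∈ H, ∀ g : G, f (g : Q) = ((a g : G) : Q)}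
  let W₀ : Subgroup Q :=
    { carrier := {q | q ∈ Subgroup.center Q ∧ q ^ p = 1}
      one_mem' := ⟨one_mem _, one_pow p⟩
      mul_mem' := fun {x y} hx hy => ⟨mul_mem hx.1 hy.1, by
        rw [(show Commute x y from (Subgroup.mem_center_iff.1 hx.1 y).symm).mul_pow, hx.2, hy.2, one_mul]⟩
      inv_mem' := fun {x} hx => ⟨inv_mem hx.1, by rw [inv_pow, hx.2, inv_one]⟩ }
  have hW0 : W₀ ≠ ⊥ := by
    have hQ : IsPGroup p Q := hG.to_quotient N
    have : Nontrivial (Subgroup.center Q) := hQ.center_nontrivial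
    obtain ⟨k, hk⟩ := IsPGroup.iff_card.1 (hQ.to_subgroup (Subgroup.center Q))
    have hdvd : p ∣ Nat.card (Subgroup.center Q) := by
      have := Finite.one_lt_card (α := Subgroup.center Q)
      rw [hk] at this ⊢
      exact dvd_pow_self p fun h => by simp [h] at this
    obtain ⟨z, hz⟩ := exists_prime_orderOf_dvd_card' p hdvd
    intro h
    have hz' : (z : Q) ∈ W₀ := ⟨z.2, by rw [← hz, ← SubmonoidClass.coe_pow, pow_orderOf_eq_one]; rfl⟩
    rw [h, Subgroup.mem_bot] at hz'
    have : z = 1 := Subtype.ext hz'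
    rw [this, orderOf_one] at hz
    exact (Fact.out : p.Prime).ne_one hz.symm
  obtain ⟨w, hw, hw1, hwΦ⟩ := exists_common_eigen (p := p) Φ
    (fun f ⟨a, ha, hf⟩ g ⟨b, hb, hg⟩ x => by
      induction x using QuotientGroup.induction_on with
      | H y => rw [hg, hf, hf, hg, ← MulAut.mul_apply, ← MulAut.mul_apply, hcomm a ha b hb])
    (fun f ⟨a, ha, hf⟩ x => by
      induction x using QuotientGroup.induction_on with
      | H y =>
        have : ∀ j : ℕ, (f : Q → Q)^[j] (y : Q) = (((a ^ j) y : G) : Q) := by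
          intro j
          induction j with
          | zero => rfl
          | succ j ih' => rw [Function.iterate_succ_apply', ih', hf, pow_succ', MulAut.mul_apply]
        rw [this, hexp a ha]
        rfl)
    W₀ hW0 (fun q hq => hq.1) (fun q hq => hq.2) (fun f ⟨a, ha, hf⟩ q hq => by
      refine ⟨Subgroup.mem_center_iff.2 fun y => ?_, by rw [← map_pow, hq.2, map_one]⟩
      induction y using QuotientGroup.induction_on with
      | H z =>
        have h1 : f ((a⁻¹ z : G) : Q) = (z : Q) := by rw [hf, MulAut.apply_inv_self]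
        rw [← h1, ← map_mul, ← map_mul, Subgroup.mem_center_iff.1 hq.1])
  obtain ⟨x, rfl⟩ := QuotientGroup.mk_surjective w
  set M := N ⊔ Subgroup.zpowers x with hM
  have hMc : M = (Subgroup.zpowers (x : Q)).comap (QuotientGroup.mk' N) := by
    rw [← QuotientGroup.mk'_apply, ← MonoidHom.map_zpowers, QuotientGroup.comap_map_mk']
  have hMn : M.Normal := by
    have : (Subgroup.zpowers (x : Q)).Normal :=
      ⟨fun n hn g => by
        rw [Subgroup.mem_center_iff.1 ((Subgroup.zpowers_le.2 hw.1) hn) g, mul_inv_cancel_right]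
        exact hn⟩
    rw [hMc]
    exact this.comap _
  have hMinv : ∀ a ∈ H, ∀ y ∈ M, a y ∈ M := by
    intro a ha
    suffices M ≤ M.comap a.toMonoidHom from fun y hy => this hy
    refine sup_le (fun y hy => Subgroup.mem_sup_left (hinv a ha y hy)) (Subgroup.zpowers_le.2 ?_)
    let f : Q →* Q := QuotientGroup.map N N a.toMonoidHom fun y hy => hinv a ha y hy
    have hf : f ∈ Φ := ⟨a, ha, fun g => rfl⟩
    rw [Subgroup.mem_comap, hMc, Subgroup.mem_comap]
    exact hwΦ f hf
  have hlt : Nat.card N < Nat.card M := by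
    refine lt_of_le_of_ne (Subgroup.card_le_of_le le_sup_left) fun h => hw1 ?_
    rw [QuotientGroup.eq_one_iff, Subgroup.eq_of_le_of_card_ge (le_sup_left : N ≤ M) h.ge]
    exact Subgroup.mem_sup_right (Subgroup.mem_zpowers x)
  have := Subgroup.card_le_card_group M
  obtain ⟨m, c, hc0, hcm, hgood, hstep⟩ := ih (Nat.card G - Nat.card M) (by omega) M (by omega) hMn hMinv
  refine ⟨m + 1, fun i => match i with | 0 => N | i + 1 => c i, rfl, hcm, fun i hi => ?_, fun i hi => ?_⟩
  · match i with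
    | 0 => exact ⟨hN, hinv⟩
    | i + 1 => exact hgood i (by omega)
  · match i with
    | 0 => exact ⟨by show N ≤ c 0; rw [hc0]; exact le_sup_left, x, by show c 0 = _; rw [hc0]⟩
    | i + 1 => exact hstep i (by omega)

variable {Ω : Type*} [Group Ω] {S : Subgroup Ω} [Finite S] {F : FusionSystem S}

/-- When every map extends to `Aut_F(S)`, a chain of invariant subgroups gives supersolubility. -/
theorem isSupersoluble_of_chain
    (hext : ∀ P f, IsMap F P f → ∃ α ∈ F.autGroup S, ∀ x ∈ P, autFn α x = f x) (m : ℕ)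
    (c : ℕ → Subgroup S) (h0 : c 0 = ⊥) (hm : c m = ⊤)
    (hinv : ∀ i ≤ m, ∀ α ∈ F.autGroup S, ∀ x ∈ c i, α x ∈ c i)
    (hstep : ∀ i < m, c i ≤ c (i + 1) ∧ ∃ x, c (i + 1) = c i ⊔ Subgroup.zpowers x) : IsSupersoluble F := by
  refine ⟨m, fun i => (c i).map S.subtype, ?_, ?_, fun i => ?_, fun i => ?_⟩
  · show (c 0).map S.subtype = ⊥
    rw [h0, Subgroup.map_bot]
  · show (c m).map S.subtype = S
    rw [hm, ← MonoidHom.range_eq_map, Subgroup.range_subtype]
  · refine stronglyClosed_of_mapsTo (Subgroup.map_subtype_le _) fun P f hf hP x hx => ?_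
    obtain ⟨α, hα, he⟩ := hext P f hf
    obtain ⟨y, hy, rfl⟩ := hP hx
    refine ⟨α y, hinv i (Nat.lt_succ_iff.1 i.2) α hα y hy, ?_⟩
    rw [← he _ hx]
    exact (autFn_apply α y.2).symm
  · obtain ⟨hle, x, hx⟩ := hstep i i.2
    refine ⟨Subgroup.map_mono hle, x, x.2, ?_⟩
    show (c (i + 1)).map S.subtype = _
    rw [hx, Subgroup.map_sup, MonoidHom.map_zpowers]
    rfl

/-- If `S` is normal and `p'`-groups of automorphisms are abelian of exponent dividing `p - 1`, the system is
supersoluble. -/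
theorem isSupersoluble_of_normal {p : ℕ} [Fact p.Prime] (hS : IsPGroup p S) (hF : F.IsSaturated p)
    (hN : F.IsNormal S)
    (hH : ∀ H : Subgroup (MulAut S), (Nat.card H).Coprime p → IsMulCommutative H ∧ ∀ h ∈ H, h ^ (p - 1) = 1) :
    IsSupersoluble F := by
  have := finite_mulAut (S := S) (le_refl S)
  set A := F.autGroup S
  let I := (Cfsg.Inn S).subgroupOf A
  have hI : I.Normal := ⟨fun x hx g => (Cfsg.innNormal S).conj_mem x hx g⟩
  have hsyl := (isFullyAutomized_iff.1 (fullyAutomized_of_fullyNormalized hS hF (isFullyNormalized_self F))).2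
  rw [FusionSparse.autInducedBy_self] at hsyl
  have hcop : Nat.Coprime (Nat.card I) I.index := by
    obtain ⟨R, hR⟩ := (isSylowIn_iff_exists hsyl.le).1 hsyl
    show Nat.Coprime (Nat.card ((Cfsg.Inn S).subgroupOf A)) ((Cfsg.Inn S).subgroupOf A).index
    rw [← hR]
    exact R.card_coprime_index
  obtain ⟨K, hK⟩ := Subgroup.exists_right_complement'_of_coprime hcop
  set H := K.map A.subtype
  have hHc : (Nat.card H).Coprime p := by
    obtain ⟨R, hR⟩ := (isSylowIn_iff_exists hsyl.le).1 hsyl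
    rw [Subgroup.card_map_of_injective A.subtype_injective, ← hK.symm.index_eq_card]
    show Nat.Coprime ((Cfsg.Inn S).subgroupOf A).index p
    rw [← hR]
    exact ((Fact.out : p.Prime).coprime_iff_not_dvd.2 (R.not_dvd_index)).symm
  obtain ⟨hcomm, hexp⟩ := hH H hHc
  obtain ⟨m, c, h0, hm, hgood, hstep⟩ := exists_invariant_chain hS H
    (fun a ha b hb => congrArg Subtype.val (hcomm.is_comm.comm ⟨a, ha⟩ ⟨b, hb⟩)) hexp
  refine isSupersoluble_of_chain (fun P f hf => ?_) m c h0 hm (fun i hi α hα x hx => ?_) hstep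
  · obtain ⟨α, hα, he⟩ := exists_top_extension_of_normal hN hf
    exact ⟨α, hα, fun x hx => he x hx (hf.le hx)⟩
  · obtain ⟨hcn, hcH⟩ := hgood i hi
    obtain ⟨⟨⟨i', hi'⟩, ⟨k, hk⟩⟩, he⟩ := (hK.existsUnique ⟨α, hα⟩).exists
    obtain ⟨g, hg⟩ := hi'
    have h1 : α = (i' : MulAut S) * (k : MulAut S) := (congrArg Subtype.val he).symm
    rw [h1, MulAut.mul_apply]
    have h2 : (k : MulAut S) x ∈ c i := hcH _ ⟨k, hk, rfl⟩ x hx
    rw [show (i' : MulAut S) = MulAut.conj g from hg.symm]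
    exact hcn.conj_mem _ h2 g

end Cfsg.Agent.FusionSupersoluble
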