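import Mathlib.GroupTheory.FiniteAbelian.Basic
import Mathlib.Data.ZMod.Basic
import Cfsg.Agent.EqLemmas

/-
Finite abelian p-groups with pairwise distinct invariants have an invariant chain with cyclic steps.

Main results (namespace `Cfsg.Agent.FusionSupersoluble`):
* `exists_char_chain` : the chain, given that each layer `Ω₁ ∩ ℧_k` modulo `℧_{k+1}` is cyclic;
* `layer_or_repeated` : either the layers are cyclic or `G ≅ (C × C) × H`.
-/

set_option autoImplicit false

namespace Cfsg.Agent.FusionSupersoluble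

variable {G : Type*} [CommGroup G]

/-- The subgroup of `p ^ k`-th powers. -/
def powRange (G : Type*) [CommGroup G] (p k : ℕ) : Subgroup G := (powMonoidHom (p ^ k) : G →* G).range

theorem mem_powRange {p k : ℕ} {x : G} : x ∈ powRange G p k ↔ ∃ y, y ^ p ^ k = x := Iff.rfl

theorem powRange_succ_le (p k : ℕ) : powRange G p (k + 1) ≤ powRange G p k := by
  rintro x ⟨y, rfl⟩
  exact ⟨y ^ p, show (y ^ p) ^ p ^ k = y ^ p ^ (k + 1) by rw [← pow_mul, pow_succ']⟩

/-- Elements of order dividing `p^(j+1)` whose `p^j`-th power is a `p^k`-th power. -/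
def layer (G : Type*) [CommGroup G] (p j k : ℕ) : Subgroup G :=
  (powMonoidHom (p ^ (j + 1)) : G →* G).ker ⊓ (powRange G p k).comap (powMonoidHom (p ^ j))

theorem mem_layer {p j k : ℕ} {x : G} :
    x ∈ layer G p j k ↔ x ^ p ^ (j + 1) = 1 ∧ x ^ p ^ j ∈ powRange G p k := Iff.rfl

theorem map_mem_layer {p j k : ℕ} (f : G →* G) {x : G} (hx : x ∈ layer G p j k) : f x ∈ layer G p j k := by
  obtain ⟨h1, y, hy⟩ := mem_layer.1 hx
  exact mem_layer.2 ⟨by rw [← map_pow, h1, map_one], f y, show f y ^ p ^ k = f x ^ p ^ j by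
    rw [← map_pow, ← map_pow]; exact congrArg f hy⟩

theorem layer_step {p : ℕ} (hp : p.Prime) (j k : ℕ) {z : G} (hz : z ^ p = 1)
    (hL : ∀ y : G, y ^ p = 1 → y ∈ powRange G p k → ∃ m : ℤ, (z ^ m)⁻¹ * y ∈ powRange G p (k + 1)) :
    layer G p j (k + 1) ≤ layer G p j k ∧
      ∃ x, layer G p j k = layer G p j (k + 1) ⊔ Subgroup.zpowers x := by
  have hle : layer G p j (k + 1) ≤ layer G p j k := fun x hx => ⟨hx.1, powRange_succ_le p k hx.2⟩
  refine ⟨hle, ?_⟩
  have hcoef : ∀ y ∈ layer G p j k, ∃ m : ℤ, (z ^ m)⁻¹ * y ^ p ^ j ∈ powRange G p (k + 1) := by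
    intro y hy
    refine hL _ ?_ hy.2
    rw [← pow_mul, ← pow_succ]
    exact (mem_layer.1 hy).1
  by_cases hall : ∀ y ∈ layer G p j k, y ^ p ^ j ∈ powRange G p (k + 1)
  · refine ⟨1, ?_⟩
    rw [Subgroup.zpowers_one_eq_bot, sup_bot_eq]
    exact le_antisymm (fun y hy => ⟨hy.1, hall y hy⟩) hle
  push_neg at hall
  obtain ⟨x, hx, hxn⟩ := hall
  refine ⟨x, le_antisymm (fun y hy => ?_) (sup_le hle (Subgroup.zpowers_le.2 hx))⟩
  obtain ⟨m, hm⟩ := hcoef x hx
  obtain ⟨n, hn⟩ := hcoef y hy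
  have hpm : ¬ (p : ℤ) ∣ m := by
    rintro ⟨c, rfl⟩
    refine hxn ?_
    rw [zpow_mul, zpow_natCast, hz, one_zpow, inv_one, one_mul] at hm
    exact hm
  obtain ⟨a, b, hab⟩ := ((Nat.prime_iff_prime_int.1 hp).coprime_iff_not_dvd.2 hpm)
  -- `n ≡ m * (n * b)` modulo `p`
  set s := n * b
  have hzs : z ^ n = z ^ (m * s) := by
    rw [show m * s = n + (p : ℤ) * (-(n * a)) by linear_combination n * hab, zpow_add, zpow_mul, zpow_natCast,
      hz, one_zpow, mul_one]
  have key : ((x ^ s)⁻¹ * y) ∈ layer G p j (k + 1) := by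
    refine mem_layer.2 ⟨(mem_layer.1 (mul_mem (inv_mem (zpow_mem hx s)) hy)).1, ?_⟩
    have h1 : ((x ^ s)⁻¹ * y) ^ p ^ j = ((z ^ m)⁻¹ * x ^ p ^ j) ^ (-s) * ((z ^ n)⁻¹ * y ^ p ^ j) := by
      rw [mul_pow, inv_pow, ← zpow_natCast (x ^ s), ← zpow_mul, mul_comm s, zpow_mul, zpow_natCast, hzs,
        zpow_neg, mul_zpow, inv_zpow, ← zpow_mul]
      simp
    rw [h1]
    exact mul_mem (zpow_mem hm _) hn
  have : y = (x ^ s) * ((x ^ s)⁻¹ * y) := (mul_inv_cancel_left _ _).symm
  rw [this]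
  exact mul_mem (Subgroup.mem_sup_right (zpow_mem (Subgroup.mem_zpowers x) s)) (Subgroup.mem_sup_left key)

/-- With cyclic layers there is a chain with cyclic steps invariant under all endomorphisms. -/
theorem exists_char_chain {p : ℕ} (hp : p.Prime) {N : ℕ} (hN : ∀ x : G, x ^ p ^ N = 1)
    (hL : ∀ k, ∃ z : G, z ^ p = 1 ∧
      ∀ y : G, y ^ p = 1 → y ∈ powRange G p k → ∃ m : ℤ, (z ^ m)⁻¹ * y ∈ powRange G p (k + 1)) :
    ∃ (m : ℕ) (c : ℕ → Subgroup G), c 0 = ⊥ ∧ c m = ⊤ ∧ (∀ i, ∀ f : G →* G, ∀ x ∈ c i, f x ∈ c i) ∧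
      ∀ i < m, c i ≤ c (i + 1) ∧ ∃ x, c (i + 1) = c i ⊔ Subgroup.zpowers x := by
  set L := N + 1 with hLdef
  have hbig : ∀ k, N ≤ k → ∀ x : G, x ^ p ^ k = 1 := fun k hk x => by
    rw [← Nat.add_sub_cancel' hk, pow_add, pow_mul, hN, one_pow]
  have hLbot : ∀ x : G, x ∈ powRange G p L ↔ x = 1 := fun x =>
    ⟨fun ⟨y, hy⟩ => hy ▸ hbig L (Nat.le_succ N) y, fun h => h ▸ one_mem _⟩
  refine ⟨L * L, fun t => layer G p (t / L) (L - t % L), ?_, ?_, fun i f x hx => map_mem_layer f hx, fun t ht => ?_⟩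
  · rw [eq_bot_iff]
    intro x hx
    have h2 := (mem_layer.1 hx).2
    simp only [Nat.zero_div, Nat.zero_mod, Nat.sub_zero, pow_zero, pow_one, hLbot] at h2
    exact h2
  · rw [eq_top_iff]
    intro x _
    show x ∈ layer G p (L * L / L) (L - L * L % L)
    rw [Nat.mul_div_cancel _ (Nat.succ_pos N), Nat.mul_mod_right, Nat.sub_zero]
    exact mem_layer.2 ⟨hbig _ (by omega) x, by rw [hbig L (Nat.le_succ N) x]; exact one_mem _⟩
  · have hmod := Nat.mod_lt t (show 0 < L from Nat.succ_pos N)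
    have hdm := Nat.div_add_mod t L
    rcases Nat.lt_or_ge (t % L + 1) L with h | h
    · obtain ⟨z, hz, hzL⟩ := hL (L - t % L - 1)
      obtain ⟨h1, x, h2⟩ := layer_step hp (t / L) _ hz hzL
      have hd : (t + 1) / L = t / L := Nat.div_eq_of_lt_le (by rw [mul_comm]; omega) (by rw [mul_comm, Nat.mul_succ]; omega)
      have hm : (t + 1) % L = t % L + 1 := by
        have h5 := Nat.div_add_mod (t + 1) L
        rw [hd] at h5
        omega
      show layer G p (t / L) (L - t % L) ≤ layer G p ((t + 1) / L) (L - (t + 1) % L) ∧ _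
      simp only [hd, hm]
      rw [show L - (t % L + 1) = L - t % L - 1 by omega]
      rw [show L - t % L - 1 + 1 = L - t % L by omega] at h1 h2
      exact ⟨h1, x, h2⟩
    · obtain ⟨z, hz, hzL⟩ := hL 0
      obtain ⟨h1, x, h2⟩ := layer_step hp (t / L) _ hz hzL
      have hd : (t + 1) / L = t / L + 1 := by
        refine Nat.div_eq_of_lt_le ?_ ?_ <;> rw [Nat.succ_mul]
        · rw [mul_comm]; omega
        · rw [Nat.succ_mul, mul_comm]; omega
      have hm : (t + 1) % L = 0 := by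
        have h5 := Nat.div_add_mod (t + 1) L
        rw [hd, Nat.mul_succ] at h5
        omega
      have heq : layer G p (t / L + 1) L = layer G p (t / L) 0 := by
        ext y
        simp only [mem_layer, hLbot]
        exact ⟨fun h => ⟨h.2, mem_powRange.2 ⟨y ^ p ^ (t / L), by rw [pow_zero, pow_one]⟩⟩,
          fun h => ⟨by rw [pow_succ, pow_mul, h.1, one_pow], h.1⟩⟩
      show layer G p (t / L) (L - t % L) ≤ layer G p ((t + 1) / L) (L - (t + 1) % L) ∧ _
      simp only [hd, hm, Nat.sub_zero, heq]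
      rw [show L - t % L = 0 + 1 by omega]
      exact ⟨h1, x, h2⟩

/-- Either the layers are cyclic or two invariants coincide. -/
theorem layer_or_repeated (G : Type*) [CommGroup G] [Finite G] {p : ℕ} [hp : Fact p.Prime] (hG : IsPGroup p G) :
    (∀ k, ∃ z : G, z ^ p = 1 ∧
      ∀ y : G, y ^ p = 1 → y ∈ powRange G p k → ∃ m : ℤ, (z ^ m)⁻¹ * y ∈ powRange G p (k + 1)) ∨
    ∃ (n : ℕ) (H : Type) (_ : CommGroup H), 0 < n ∧
      Nonempty (G ≃* (Multiplicative (ZMod (p ^ n)) × Multiplicative (ZMod (p ^ n))) × H) := by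
  classical
  obtain ⟨ι, _, N, h1, ⟨e⟩⟩ := CommGroup.equiv_prod_multiplicative_zmod_of_finite G
  have hpow : ∀ i, ∃ ε, N i = p ^ ε ∧ 0 < ε := fun i => by
    obtain ⟨k, hk⟩ := IsPGroup.iff_orderOf.1 hG (e.symm (Pi.mulSingle i (Multiplicative.ofAdd (1 : ZMod (N i)))))
    rw [MulEquiv.orderOf_eq, orderOf_piMulSingle, orderOf_ofAdd_eq_addOrderOf, ZMod.addOrderOf_one] at hk
    refine ⟨k, hk, Nat.pos_of_ne_zero fun h => ?_⟩
    have := h1 i
    rw [hk, h, pow_zero] at this
    omega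
  choose ε hε hεpos using hpow
  obtain rfl : N = fun i => p ^ ε i := funext hε
  by_cases hinj : Function.Injective ε
  · refine Or.inl fun k => ?_
    -- the generator of the layer
    let z₀ : (i : ι) → Multiplicative (ZMod (p ^ ε i)) := fun i =>
      if ε i = k + 1 then Multiplicative.ofAdd ((p : ZMod (p ^ ε i)) ^ k) else 1
    have hzp : z₀ ^ p = 1 := by
      funext i
      simp only [Pi.pow_apply, Pi.one_apply, z₀]
      split_ifs with h
      · rw [← ofAdd_nsmul, nsmul_eq_mul, ← pow_succ', ← Nat.cast_pow, ← h, ZMod.natCast_self, ofAdd_zero]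
      · rw [one_pow]
    refine ⟨e.symm z₀, by rw [← map_pow, hzp, map_one], fun y hy hyk => ?_⟩
    obtain ⟨w, hw⟩ := mem_powRange.1 hyk
    have hw0 : ∀ i, p ^ ε i ∣ (Multiplicative.toAdd (e w i)).val * p ^ (k + 1) := fun i => by
      rw [← ZMod.natCast_eq_zero_iff, Nat.cast_mul, ZMod.natCast_zmod_val]
      have : (e w ^ p ^ (k + 1)) = 1 := by rw [← map_pow, pow_succ, pow_mul, hw, hy, map_one]
      have h2 := congrArg Multiplicative.toAdd (congrFun this i)
      rw [Pi.pow_apply, toAdd_pow, Pi.one_apply, toAdd_one, nsmul_eq_mul] at h2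
      rw [mul_comm]; exact h2
    obtain ⟨m, hm⟩ : ∃ m : ℤ, ∀ i, ε i = k + 1 → (m : ZMod (p ^ ε i)) = Multiplicative.toAdd (e w i) := by
      by_cases h : ∃ i, ε i = k + 1
      · obtain ⟨i, hi⟩ := h
        refine ⟨(Multiplicative.toAdd (e w i)).val, fun l hl => ?_⟩
        obtain rfl : i = l := hinj (hi.trans hl.symm)
        rw [Int.cast_natCast, ZMod.natCast_zmod_val]
      · exact ⟨0, fun i hi => absurd ⟨i, hi⟩ h⟩
    refine ⟨m, ?_⟩
    have hcoord : ∀ i, ∃ u : ZMod (p ^ ε i), ((p ^ (k + 1) : ℕ) : ZMod (p ^ ε i)) * u =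
        -(m • Multiplicative.toAdd (z₀ i)) + ((p ^ k : ℕ) : ZMod (p ^ ε i)) * Multiplicative.toAdd (e w i) := by
      intro i
      by_cases h : ε i = k + 1
      · refine ⟨0, ?_⟩
        simp only [z₀, if_pos h, toAdd_ofAdd]
        rw [mul_zero, zsmul_eq_mul, hm i h, Nat.cast_pow]
        ring
      · simp only [z₀, if_neg h, toAdd_one, smul_zero, neg_zero, zero_add]
        rcases Nat.lt_or_ge (ε i) (k + 1) with hlt | hge
        · refine ⟨0, ?_⟩
          rw [mul_zero, eq_comm]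
          have h0 : ((p ^ k : ℕ) : ZMod (p ^ ε i)) = 0 :=
            (ZMod.natCast_eq_zero_iff _ _).2 (pow_dvd_pow p (by omega))
          rw [h0, zero_mul]
        · have hdvd : p ∣ (Multiplicative.toAdd (e w i)).val := by
            have h2 := hw0 i
            rw [show ε i = (ε i - (k + 1) - 1) + 1 + (k + 1) by omega, pow_add,
              Nat.mul_dvd_mul_iff_right (pow_pos hp.out.pos _)] at h2
            exact (dvd_pow_self p (Nat.succ_ne_zero _)).trans h2
          obtain ⟨c, hc⟩ := hdvd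
          refine ⟨(c : ZMod (p ^ ε i)), ?_⟩
          rw [← ZMod.natCast_zmod_val (Multiplicative.toAdd (e w i)), hc]
          push_cast
          ring
    choose u hu using hcoord
    refine mem_powRange.2 ⟨e.symm fun i => Multiplicative.ofAdd (u i), e.injective ?_⟩
    rw [map_pow, MulEquiv.apply_symm_apply, map_mul, map_inv, map_zpow, MulEquiv.apply_symm_apply, ← hw, map_pow]
    funext i
    apply Multiplicative.toAdd.injective
    simp only [Pi.pow_apply, Pi.mul_apply, Pi.inv_apply, toAdd_mul, toAdd_inv, toAdd_pow, toAdd_zpow, toAdd_ofAdd,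
      nsmul_eq_mul]
    exact hu i
  · refine Or.inr ?_
    simp only [Function.Injective, not_forall] at hinj
    obtain ⟨i, l, hil, hne⟩ := hinj
    let c : ZMod (p ^ ε l) ≃+* ZMod (p ^ ε i) := ZMod.ringEquivCongr (by rw [hil])
    let cm : Multiplicative (ZMod (p ^ ε l)) ≃* Multiplicative (ZMod (p ^ ε i)) :=
      AddEquiv.toMultiplicative c.toAddEquiv
    let φ : ((t : ι) → Multiplicative (ZMod (p ^ ε t))) →*
        (Multiplicative (ZMod (p ^ ε i)) × Multiplicative (ZMod (p ^ ε i))) ×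
          ((t : {t : ι // t ≠ i ∧ t ≠ l}) → Multiplicative (ZMod (p ^ ε t.1))) :=
      MonoidHom.mk' (fun f => ((f i, cm (f l)), fun t => f t.1)) fun f g => by
        simp only [Prod.mk_mul_mk, Pi.mul_apply, map_mul]
        rfl
    have hbij : Function.Bijective φ := by
      constructor
      · intro f g h
        have h1 := congrArg (fun q => q.1.1) h
        have h2 := cm.injective (congrArg (fun q => q.1.2) h : _)
        have h3 := congrArg (fun q => q.2) h
        funext t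
        by_cases hti : t = i
        · subst hti; exact h1
        by_cases htl : t = l
        · subst htl; exact h2
        exact congrFun h3 ⟨t, hti, htl⟩
      · rintro ⟨⟨a, b⟩, r⟩
        refine ⟨fun t => if hti : t = i then hti ▸ a else if htl : t = l then htl ▸ cm.symm b else r ⟨t, hti, htl⟩,
          Prod.ext (Prod.ext ?_ ?_) ?_⟩
        · show dite (i = i) _ _ = a
          rw [dif_pos rfl]
        · show cm (dite (l = i) _ _) = b
          rw [dif_neg (fun h => hne h.symm), dif_pos rfl, MulEquiv.apply_symm_apply]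
        · funext t
          show dite (t.1 = i) _ _ = r t
          rw [dif_neg t.2.1, dif_neg t.2.2]
    exact ⟨ε i, _, inferInstance, hεpos i, ⟨e.trans (MulEquiv.ofBijective φ hbij)⟩⟩

end Cfsg.Agent.FusionSupersoluble
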