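import Cfsg.Agent.Lib.FusionChain.Stabilizer

/-
Automorphism groups of a finite p-group leaving invariant a chain with cyclic sections.

Main results (namespace `Cfsg.Agent.FusionSupersoluble`):
* `CyclicChain` : an invariant normal chain with cyclic sections;
* `CyclicChain.pCore_of_pElement` : the elements of p-power order lie in `O_p(A)`;
* `CyclicChain.comm`, `CyclicChain.pow_sub_one` : if `|A|` is prime to `p`, then `A` is abelian of exponent
  dividing `p - 1`.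
-/

set_option autoImplicit false
open scoped commutatorElement

namespace Cfsg.Agent.FusionSupersoluble

open Cfsg.Agent.FusionChain

variable {R : Type*} [Group R]

/-- An `A`-invariant chain of normal subgroups with cyclic sections. -/
structure CyclicChain (A : Subgroup (MulAut R)) (n : ℕ) (U : ℕ → Subgroup R) : Prop where
  bot : U 0 = ⊥
  top : U n = ⊤
  mono : ∀ i < n, U i ≤ U (i + 1)
  normal : ∀ i ≤ n, (U i).Normal
  inv : ∀ a ∈ A, ∀ i ≤ n, ∀ x ∈ U i, a x ∈ U i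
  cyclic : ∀ i < n, ∃ v ∈ U (i + 1), ∀ x ∈ U (i + 1), ∃ j : ℤ, (v ^ j)⁻¹ * x ∈ U i

variable {A : Subgroup (MulAut R)} {n : ℕ} {U : ℕ → Subgroup R}

theorem CyclicChain.scalar (h : CyclicChain A n U) {i : ℕ} (hi : i < n) [(U i).Normal] :
    ∃ v ∈ U (i + 1), (∀ x ∈ U (i + 1), ∃ j : ℤ, (x : R ⧸ U i) = (v : R ⧸ U i) ^ j) ∧
      ∀ α ∈ A, ∃ a : ℤ, ∀ y ∈ U (i + 1), (α y : R ⧸ U i) = (y : R ⧸ U i) ^ a := by
  obtain ⟨v, hv, hgen⟩ := h.cyclic i hi
  have hgen' : ∀ x ∈ U (i + 1), ∃ j : ℤ, (x : R ⧸ U i) = (v : R ⧸ U i) ^ j := fun x hx => by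
    obtain ⟨j, hj⟩ := hgen x hx
    exact ⟨j, (QuotientGroup.eq.2 hj).symm⟩
  refine ⟨v, hv, hgen', fun α hα => ?_⟩
  obtain ⟨a, ha⟩ := hgen' _ (h.inv α hα (i + 1) hi v hv)
  refine ⟨a, fun y hy => ?_⟩
  obtain ⟨j, hj⟩ := hgen' y hy
  have h1 : (α y : R ⧸ U i) = ((α (v ^ j) : R) : R ⧸ U i) := by
    rw [← QuotientGroup.mk_zpow] at hj
    refine QuotientGroup.eq.2 ?_
    rw [← map_inv, ← map_mul]
    exact h.inv α hα i hi.le _ (QuotientGroup.eq.1 hj)
  rw [h1, map_zpow, QuotientGroup.mk_zpow, ha, hj, ← zpow_mul, ← zpow_mul, mul_comm]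

/-- The elements of `A` stabilising the chain. -/
def CyclicChain.stab (h : CyclicChain A n U) : Subgroup A where
  carrier := {a : A | ∀ i < n, ∀ x ∈ U (i + 1), x⁻¹ * (a : MulAut R) x ∈ U i}
  one_mem' := by intro i _ x _; simp
  mul_mem' := by
    intro a b ha hb i hi x hx
    have hbx : x⁻¹ * (b : MulAut R) x ∈ U i := hb i hi x hx
    have hab := h.inv _ a.2 i hi.le _ hbx
    rw [map_mul, map_inv] at hab
    have := (U i).mul_mem (ha i hi x hx) hab
    rwa [mul_assoc, mul_inv_cancel_left] at this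
  inv_mem' := by
    intro a ha i hi x hx
    have hy : (a⁻¹ : A).1 x ∈ U (i + 1) := h.inv _ (a⁻¹ : A).2 (i + 1) hi _ hx
    have := ha i hi _ hy
    rw [InvMemClass.coe_inv, MulAut.apply_inv_self] at this
    have h2 := (U i).inv_mem this
    rw [mul_inv_rev, inv_inv] at h2
    exact h2

theorem CyclicChain.comm_mem_stab (h : CyclicChain A n U) (α β : A) : ⁅α, β⁆ ∈ h.stab := by
  intro i hi x hx
  have := h.normal i hi.le
  obtain ⟨v, -, -, hsc⟩ := h.scalar hi
  obtain ⟨a, ha⟩ := hsc _ α.2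
  obtain ⟨b, hb⟩ := hsc _ β.2
  set z := ((β * α)⁻¹ : A).1 x with hz
  have hzU : z ∈ U (i + 1) := h.inv _ ((β * α)⁻¹ : A).2 (i + 1) hi _ hx
  have h1 : ((α.1 (β.1 z) : R) : R ⧸ U i) = (β.1 (α.1 z) : R ⧸ U i) := by
    rw [ha _ (h.inv _ β.2 (i + 1) hi _ hzU), hb _ hzU, hb _ (h.inv _ α.2 (i + 1) hi _ hzU), ha _ hzU,
      ← zpow_mul, ← zpow_mul, mul_comm]
  have h2 : β.1 (α.1 z) = x := by
    rw [hz, InvMemClass.coe_inv, ← MulAut.mul_apply, ← Subgroup.coe_mul, MulAut.apply_inv_self]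
  have h3 : ((⁅α, β⁆ : A) : MulAut R) x = α.1 (β.1 z) := by
    rw [hz, show (⁅α, β⁆ : A) = α * (β * (β * α)⁻¹) from by group, Subgroup.coe_mul, Subgroup.coe_mul]
    rfl
  rw [h3]
  have h4 := QuotientGroup.eq.1 h1.symm
  rwa [h2] at h4

theorem CyclicChain.stab_normal (h : CyclicChain A n U) : h.stab.Normal := ⟨fun s hs g => by
  have h1 := mul_mem (h.comm_mem_stab g s) hs
  rwa [commutatorElement_def, inv_mul_cancel_right] at h1⟩

theorem CyclicChain.isPGroup_stab [Finite R] {p : ℕ} [Fact p.Prime] (hR : IsPGroup p R) (h : CyclicChain A n U) :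
    IsPGroup p h.stab := by
  have : IsPGroup p (h.stab.map A.subtype) := by
    refine isPGroup_of_stabilizes_chain hR _ n U h.bot h.top ?_
    rintro _ ⟨a, ha, rfl⟩
    exact ha
  exact this.comap_of_injective A.subtype A.subtype_injective |>.to_le (Subgroup.le_comap_map _ _)

/-- The elements some `p`-power of which stabilises the chain. -/
def CyclicChain.pPart (h : CyclicChain A n U) (p : ℕ) : Subgroup A where
  carrier := {a | ∃ k, a ^ p ^ k ∈ h.stab}
  one_mem' := ⟨0, by simp⟩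
  inv_mem' := fun ⟨k, hk⟩ => ⟨k, by rw [inv_pow]; exact inv_mem hk⟩
  mul_mem' := by
    rintro a b ⟨k, hk⟩ ⟨l, hl⟩
    have := h.stab_normal
    refine ⟨k + l, ?_⟩
    rw [← QuotientGroup.eq_one_iff, QuotientGroup.mk_pow, QuotientGroup.mk_mul] at *
    have hc : Commute (a : A ⧸ h.stab) (b : A ⧸ h.stab) := by
      rw [← commutatorElement_eq_one_iff_commute]
      exact (QuotientGroup.eq_one_iff _).2 (h.comm_mem_stab a b)
    rw [hc.mul_pow, pow_add, pow_mul, hk, one_pow, one_mul, mul_comm, pow_mul, hl, one_pow]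

/-- The elements of `p`-power order lie in `O_p(A)`. -/
theorem CyclicChain.pCore_of_pElement [Finite R] {p : ℕ} [Fact p.Prime] (hR : IsPGroup p R)
    (h : CyclicChain A n U) (α : A) (hα : ∃ k, α ^ p ^ k = 1) : α ∈ Cfsg.pCore p A := by
  have hn : (h.pPart p).Normal := ⟨fun a ⟨k, hk⟩ g => ⟨k, by
    rw [conj_pow]
    exact h.stab_normal.conj_mem _ hk g⟩⟩
  refine le_pCore_of_normal _ hn ?_ ⟨hα.choose, by rw [hα.choose_spec]; exact one_mem _⟩
  rintro ⟨a, k, hk⟩
  obtain ⟨l, hl⟩ := h.isPGroup_stab hR ⟨_, hk⟩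
  exact ⟨k + l, Subtype.ext (by
    show a ^ p ^ (k + l) = 1
    rw [pow_add, pow_mul]
    exact congrArg Subtype.val hl)⟩

theorem CyclicChain.comm [Finite R] {p : ℕ} [Fact p.Prime] (hR : IsPGroup p R) (h : CyclicChain A n U)
    (hA : (Nat.card A).Coprime p) (α β : A) : α * β = β * α := by
  refine commutatorElement_eq_one_iff_mul_comm.1 (Subtype.ext ?_)
  refine eq_one_of_stabilizes_chain hR _ ?_ n U h.bot h.top (h.comm_mem_stab α β)
  rw [Subgroup.orderOf_coe]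
  exact hA.coprime_dvd_left (orderOf_dvd_natCard _)

theorem CyclicChain.pow_sub_one [Finite R] {p : ℕ} [hp : Fact p.Prime] (hR : IsPGroup p R) (h : CyclicChain A n U)
    (hA : (Nat.card A).Coprime p) (α : A) : α ^ (p - 1) = 1 := by
  obtain ⟨N, hN⟩ := IsPGroup.iff_card.1 hR
  set g := α ^ (p - 1) with hg
  have hgc : (orderOf g).Coprime p := hA.coprime_dvd_left (orderOf_dvd_natCard _)
  have hst : g ^ p ^ N ∈ h.stab := by
    intro i hi x hx
    have := h.normal i hi.le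
    obtain ⟨v, hv, hgen, hsc⟩ := h.scalar hi
    obtain ⟨a, ha⟩ := hsc _ α.2
    obtain ⟨b, hb⟩ := hsc _ (α⁻¹ : A).2
    obtain ⟨k, hk⟩ := IsPGroup.iff_orderOf.1 (hR.to_quotient (U i)) (v : R ⧸ U i)
    have hkN : k ≤ N := by
      have h1 : p ^ k ∣ Nat.card R := hk ▸ (orderOf_dvd_natCard _).trans (Subgroup.card_quotient_dvd_card (U i))
      rw [hN] at h1
      exact (Nat.pow_dvd_pow_iff_le_right hp.out.one_lt).1 h1
    have hab : ((a * b : ℤ) : ZMod (p ^ k)) = ((1 : ℤ) : ZMod (p ^ k)) := by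
      rw [← hk, ZMod.intCast_eq_intCast_iff, ← zpow_eq_zpow_iff_modEq, zpow_mul, zpow_one, ← ha v hv]
      rw [← hb _ (h.inv _ α.2 (i + 1) hi _ hv), InvMemClass.coe_inv, MulAut.inv_apply_self]
    have hpow : ∀ m : ℕ, ∀ y ∈ U (i + 1), ((((α ^ m : A) : MulAut R) y : R) : R ⧸ U i) =
        (y : R ⧸ U i) ^ (a ^ m) := by
      intro m
      induction m with
      | zero => intro y _; simp
      | succ m ih =>
        intro y hy
        rw [pow_succ α m, Subgroup.coe_mul, MulAut.mul_apply, ih _ (h.inv _ α.2 (i + 1) hi _ hy), ha y hy,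
          ← zpow_mul, pow_succ' a m]
    obtain ⟨j, hj⟩ := hgen x hx
    have hu : IsUnit ((a : ℤ) : ZMod (p ^ k)) := IsUnit.of_mul_eq_one ((b : ℤ) : ZMod (p ^ k)) (by push_cast at hab; exact hab)
    obtain ⟨c, hc⟩ : Nat.totient (p ^ k) ∣ (p - 1) * p ^ N := by
      rcases Nat.eq_zero_or_pos k with rfl | hk0
      · simp
      · rw [Nat.totient_prime_pow hp.out hk0, mul_comm (p ^ (k - 1))]
        exact mul_dvd_mul_left _ (pow_dvd_pow _ (by omega))
    have he : ((a ^ ((p - 1) * p ^ N) : ℤ) : ZMod (p ^ k)) = ((1 : ℤ) : ZMod (p ^ k)) := by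
      push_cast
      rw [hc, pow_mul, ← hu.unit_spec, ← Units.val_pow_eq_pow_val, ZMod.pow_totient, Units.val_one, one_pow]
    have h5 : (x : R ⧸ U i) = ((((g ^ p ^ N : A) : MulAut R) x : R) : R ⧸ U i) := by
      rw [hg, ← pow_mul, hpow _ x hx, hj, ← zpow_mul, mul_comm j, zpow_mul]
      rw [show (v : R ⧸ U i) ^ (a ^ ((p - 1) * p ^ N)) = (v : R ⧸ U i) ^ (1 : ℤ) from
        zpow_eq_zpow_iff_modEq.2 (by rw [hk, ← ZMod.intCast_eq_intCast_iff]; exact he), zpow_one]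
    exact QuotientGroup.eq.1 h5
  have h1 : g ^ p ^ N = 1 := Subtype.ext <| eq_one_of_stabilizes_chain hR _ (by
    rw [Subgroup.orderOf_coe]
    exact hA.coprime_dvd_left (orderOf_dvd_natCard _)) n U h.bot h.top hst
  exact orderOf_eq_one_iff.1 (Nat.eq_one_of_dvd_coprimes (hgc.pow_right N) dvd_rfl (orderOf_dvd_of_pow_eq_one h1))

end Cfsg.Agent.FusionSupersoluble
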