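import Mathlib.GroupTheory.PGroup
import Mathlib.Data.ZMod.Basic
import Cfsg.Agent.EqLemmas

/-
Automorphisms of `(C × C) × H` of order prime to `p` that are not abelian of exponent dividing `p - 1`.

Main result (namespace `Cfsg.Agent.FusionSupersoluble`): `false_of_repeated`.
-/

set_option autoImplicit false

namespace Cfsg.Agent.FusionSupersoluble

variable {A : Type*} [CommGroup A]

/-- `(a, b) ↦ (b, a⁻¹ b⁻¹)`. -/
def twist (A : Type*) [CommGroup A] : MulAut (A × A) where
  toFun x := (x.2, x.1⁻¹ * x.2⁻¹)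
  invFun x := (x.1⁻¹ * x.2⁻¹, x.1)
  left_inv x := by ext <;> simp [mul_comm]
  right_inv x := by ext <;> simp [mul_comm]
  map_mul' x y := by ext <;> simp [mul_comm, mul_left_comm, mul_assoc]

theorem twist_apply (x : A × A) : twist A x = (x.2, x.1⁻¹ * x.2⁻¹) := rfl

theorem twist_pow_three : twist A ^ 3 = 1 := MulEquiv.ext fun x => by
  show twist A (twist A (twist A x)) = x
  rw [twist_apply, twist_apply, twist_apply]
  ext <;> simp [mul_comm]

/-- `(a, b) ↦ (a⁻¹, b)`. -/
def flipInv (A : Type*) [CommGroup A] : MulAut (A × A) where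
  toFun x := (x.1⁻¹, x.2)
  invFun x := (x.1⁻¹, x.2)
  left_inv x := by ext <;> simp
  right_inv x := by ext <;> simp
  map_mul' x y := by ext <;> simp [mul_comm]

theorem flipInv_apply (x : A × A) : flipInv A x = (x.1⁻¹, x.2) := rfl

/-- `(a, b) ↦ (b, a)`. -/
def swapAut (A : Type*) [CommGroup A] : MulAut (A × A) where
  toFun x := (x.2, x.1)
  invFun x := (x.2, x.1)
  left_inv x := rfl
  right_inv x := rfl
  map_mul' x y := rfl

theorem swapAut_apply (x : A × A) : swapAut A x = (x.2, x.1) := rfl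

theorem swapAut_mul_self : swapAut A * swapAut A = 1 := MulEquiv.ext fun x => rfl

theorem flipInv_mul_self : flipInv A * flipInv A = 1 := MulEquiv.ext fun x => by
  rw [MulAut.mul_apply, flipInv_apply, flipInv_apply]
  ext <;> simp

theorem flipSwap_pow_four : (flipInv A * swapAut A) ^ 2 ^ 2 = 1 := MulEquiv.ext fun x => by
  show (flipInv A * swapAut A) ((flipInv A * swapAut A) ((flipInv A * swapAut A) ((flipInv A * swapAut A) x))) = x
  simp only [MulAut.mul_apply, swapAut_apply, flipInv_apply, inv_inv]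

theorem false_of_repeated {p : ℕ} [hp : Fact p.Prime] {S : Type*} [Group S] [Finite S] {n : ℕ} (hn : 0 < n)
    {H : Type} [CommGroup H] (e : S ≃* (Multiplicative (ZMod (p ^ n)) × Multiplicative (ZMod (p ^ n))) × H)
    (hall : ∀ K : Subgroup (MulAut S), (Nat.card K).Coprime p → IsMulCommutative K ∧ ∀ k ∈ K, k ^ (p - 1) = 1) :
    False := by
  classical
  set C := Multiplicative (ZMod (p ^ n))
  have hp1 := hp.out.one_lt
  have hpn : 2 ≤ p ^ n := (Nat.le_self_pow hn.ne' p).trans' hp.out.two_le
  set a₀ : C := Multiplicative.ofAdd (1 : ZMod (p ^ n)) with ha₀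
  have ha1 : a₀ ≠ 1 := by
    intro h
    have h2 := congrArg Multiplicative.toAdd h
    rw [ha₀, toAdd_ofAdd, toAdd_one, ← Nat.cast_one, ZMod.natCast_eq_zero_iff, Nat.dvd_one] at h2
    omega
  let tr : MulAut (C × C) →* MulAut S :=
    (MulAut.congr e.symm).toMonoidHom.comp (MonoidHom.mk' (fun α => MulEquiv.prodCongr α (MulEquiv.refl H))
      fun α β => by ext x <;> rfl)
  have htr : Function.Injective tr := by
    intro α β h
    have h1 := (MulAut.congr e.symm).injective h
    refine MulEquiv.ext fun x => ?_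
    exact congrArg (fun f : MulAut ((C × C) × H) => (f (x, 1)).1) h1
  rcases eq_or_ne p 2 with rfl | hp2
  · set ψ : MulAut (C × C) := twist C with hψ
    have h3 : ψ ^ 3 = 1 := twist_pow_three
    have hcard : (Nat.card (Subgroup.zpowers (tr ψ))).Coprime 2 := by
      rw [Nat.card_zpowers]
      refine Nat.Coprime.coprime_dvd_left (orderOf_dvd_of_pow_eq_one (n := 3) ?_) (by norm_num)
      rw [← map_pow, h3, map_one]
    have h1 := (hall _ hcard).2 _ (Subgroup.mem_zpowers _)
    rw [show (2 - 1 : ℕ) = 1 from rfl, pow_one, ← map_one tr] at h1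
    have h2 := congrArg (fun g : MulAut (C × C) => (g (a₀, 1)).1) (htr h1)
    exact ha1 (h2.symm : a₀ = 1)
  · set s : MulAut (C × C) := swapAut C with hsdef
    set t : MulAut (C × C) := flipInv C with htdef
    set u := t * s with hu
    have hs2 : s * s = 1 := swapAut_mul_self
    have ht2 : t * t = 1 := flipInv_mul_self
    have hu4 : u ^ 2 ^ 2 = 1 := flipSwap_pow_four
    set U := Subgroup.zpowers (tr u)
    have hs : (tr s) * tr u * (tr s)⁻¹ = (tr u)⁻¹ := by
      rw [← map_inv, ← map_inv, ← map_mul, ← map_mul, hu]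
      congr 1
    have hUn : Subgroup.zpowers (tr s) ≤ Subgroup.normalizer (U : Set (MulAut S)) := by
      rw [Subgroup.zpowers_le]
      refine Subgroup.mem_normalizer_iff.2 fun g => ?_
      have key : ∀ g ∈ U, tr s * g * (tr s)⁻¹ ∈ U := by
        rintro _ ⟨k, rfl⟩
        refine ⟨-k, ?_⟩
        show tr u ^ (-k) = _
        rw [← conj_zpow, hs, zpow_neg, inv_zpow]
      refine ⟨key g, fun h => ?_⟩
      have hsi : (tr s)⁻¹ = tr s := inv_eq_of_mul_eq_one_right (by rw [← map_mul, hs2, map_one])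
      have h2 := key _ h
      rw [hsi] at h2
      have hss : tr s * tr s = 1 := by rw [← map_mul, hs2, map_one]
      have hgg : tr s * (tr s * g * tr s) * tr s = g := by
        rw [← mul_assoc, ← mul_assoc, hss, one_mul, mul_assoc, hss, mul_one]
      rwa [hgg] at h2
    have h2U : IsPGroup 2 U := by
      rintro ⟨_, k, rfl⟩
      refine ⟨2, Subtype.ext ?_⟩
      show (tr u ^ k) ^ 2 ^ 2 = 1
      rw [← zpow_natCast, ← zpow_mul, mul_comm, zpow_mul, zpow_natCast, ← map_pow, hu4, map_one, one_zpow]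
    have h2s : IsPGroup 2 (Subgroup.zpowers (tr s)) := by
      rintro ⟨_, k, rfl⟩
      refine ⟨1, Subtype.ext ?_⟩
      show (tr s ^ k) ^ 2 ^ 1 = 1
      rw [← zpow_natCast, ← zpow_mul, mul_comm, zpow_mul, zpow_natCast, pow_one, pow_two, ← map_mul, hs2, map_one,
        one_zpow]
    have h2 := IsPGroup.to_sup_of_normal_left' h2U h2s hUn
    have : Finite (MulAut S) := Finite.of_injective (fun α : MulAut S => (α : S → S)) DFunLike.coe_injective
    have : Fact (Nat.Prime 2) := ⟨Nat.prime_two⟩
    obtain ⟨k, hk⟩ := IsPGroup.iff_card.1 h2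
    have hcard : (Nat.card (U ⊔ Subgroup.zpowers (tr s) : Subgroup (MulAut S))).Coprime p := by
      rw [hk]
      exact ((Nat.coprime_primes Nat.prime_two hp.out).2 (Ne.symm hp2)).pow_left k
    obtain ⟨hc, -⟩ := hall _ hcard
    have h5 := congrArg Subtype.val (hc.is_comm.comm
      ⟨tr u, Subgroup.mem_sup_left (Subgroup.mem_zpowers _)⟩ ⟨tr s, Subgroup.mem_sup_right (Subgroup.mem_zpowers _)⟩)
    replace h5 : tr u * tr s = tr s * tr u := h5
    rw [← map_mul, ← map_mul] at h5
    have h6 := congrArg (fun g : MulAut (C × C) => Multiplicative.toAdd (g (a₀, 1)).1) (htr h5)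
    simp [hu, hsdef, htdef, ha₀, swapAut_apply, flipInv_apply] at h6
    have h7 : ((2 : ℕ) : ZMod (p ^ n)) = 0 := by
      push_cast
      replace h6 : (-1 : ZMod (p ^ n)) = 1 := h6
      linear_combination -h6
    rw [ZMod.natCast_eq_zero_iff] at h7
    have h8 : p ∣ 2 := (dvd_pow_self p hn.ne').trans h7
    exact hp2 ((Nat.prime_dvd_prime_iff_eq hp.out Nat.prime_two).1 h8)

end Cfsg.Agent.FusionSupersoluble
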