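import Cfsg.Agent.Lib.FusionSupersoluble.Chain
import Cfsg.Agent.Lib.FusionSparse.Basic
import Cfsg.Agent.Lib.FusionChain.StronglyClosed
import Cfsg.Agent.Lib.FusionChain.Radical

/-
Supersoluble fusion systems.

Main results (namespace `Cfsg.Agent.FusionSupersoluble`):
* `IsSupersoluble`; `cyclicChain_of_supersoluble` : the chain seen in any `R ≤ S`;
* `isNormal_of_supersoluble` : `S` is normal;
* `coprime_aut_abelian` : if all saturated systems on `S` are supersoluble, the `p'`-groups of automorphisms of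
  `S` are abelian of exponent dividing `p - 1`.
-/

set_option autoImplicit false

namespace Cfsg.Agent.FusionSupersoluble

open Cfsg Cfsg.FusionSystem Cfsg.Agent.Fusion Cfsg.Agent.FusionChain Cfsg.Agent.FusionSparse

variable {Ω : Type*} [Group Ω] {S : Subgroup Ω}

/-- A chain of strongly closed subgroups with cyclic steps. -/
def IsSupersoluble (F : FusionSystem S) : Prop :=
  ∃ (m : ℕ) (c : Fin (m + 1) → Subgroup Ω), c 0 = ⊥ ∧ c (Fin.last m) = S ∧
    (∀ i : Fin (m + 1), F.StronglyClosed (c i)) ∧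
    ∀ i : Fin m, c i.castSucc ≤ c i.succ ∧ ∃ x ∈ S, c i.succ = c i.castSucc ⊔ Subgroup.zpowers x

variable [Finite S] {F : FusionSystem S}

theorem cyclicChain_of_supersoluble (h : IsSupersoluble F) {R : Subgroup Ω} (hR : R ≤ S) :
    ∃ (n : ℕ) (U : ℕ → Subgroup R), CyclicChain (F.autGroup R) n U := by
  obtain ⟨m, c, h0, htop, hsc, hstep⟩ := h
  let d : ℕ → Subgroup Ω := fun i => if hi : i < m + 1 then c ⟨i, hi⟩ else S
  have hd : ∀ i : Fin (m + 1), d i = c i := fun i => dif_pos i.2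
  have hdsc : ∀ i ≤ m, F.StronglyClosed (d i) := fun i hi => (hd ⟨i, by omega⟩) ▸ hsc ⟨i, by omega⟩
  have hdstep : ∀ i < m, d i ≤ d (i + 1) ∧ ∃ x ∈ S, d (i + 1) = d i ⊔ Subgroup.zpowers x := fun i hi => by
    have := hstep ⟨i, hi⟩
    rwa [← hd, ← hd] at this
  refine ⟨m, fun i => (d i).subgroupOf R, ?_, ?_, fun i hi => ?_, fun i hi => ?_, fun a ha i hi x hx => ?_,
    fun i hi => ?_⟩
  · show (d 0).subgroupOf R = ⊥
    rw [show d 0 = ⊥ from (hd 0).trans h0, Subgroup.bot_subgroupOf]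
  · show (d m).subgroupOf R = ⊤
    rw [show d m = S from (hd (Fin.last m)).trans htop, Subgroup.subgroupOf_eq_top]
    exact hR
  · exact fun x hx => (hdstep i hi).1 hx
  · exact ⟨fun x hx g => conj_mem_of_stronglyClosed (hdsc i hi) (hR g.2) hx⟩
  · show ((a x : R) : Ω) ∈ d i
    rw [← autFn_apply a x.2]
    exact isMap_mem_of_stronglyClosed (hdsc i hi) ((mem_autGroup_iff hR).1 ha) x.2 hx
  · obtain ⟨-, x, hxS, hxd⟩ := hdstep i hi
    set T := (d i).subgroupOf S
    have hT : T.Normal := ⟨fun y hy g => conj_mem_of_stronglyClosed (hdsc i hi.le) g.2 hy⟩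
    let π : R →* S ⧸ T := (QuotientGroup.mk' T).comp (Subgroup.inclusion hR)
    set M := ((d (i + 1)).subgroupOf R).map π with hM
    have hgen : (d (i + 1)).subgroupOf S = T ⊔ Subgroup.zpowers (⟨x, hxS⟩ : S) := by
      rw [hxd, Subgroup.subgroupOf_sup (hdsc i hi.le).1 (Subgroup.zpowers_le.2 hxS)]
      congr 1
      apply Subgroup.map_injective S.subtype_injective
      rw [Subgroup.map_subgroupOf_eq_of_le (Subgroup.zpowers_le.2 hxS), MonoidHom.map_zpowers]
      rfl
    have hle : M ≤ Subgroup.zpowers (QuotientGroup.mk' T ⟨x, hxS⟩) := by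
      rintro _ ⟨y, hy, rfl⟩
      have h1 : Subgroup.inclusion hR y ∈ T ⊔ Subgroup.zpowers (⟨x, hxS⟩ : S) := hgen ▸ hy
      have h2 := Subgroup.mem_map_of_mem (QuotientGroup.mk' T) h1
      rw [Subgroup.map_sup, QuotientGroup.map_mk'_self, bot_sup_eq, MonoidHom.map_zpowers] at h2
      exact h2
    have : IsCyclic M := isCyclic_of_surjective (Subgroup.subgroupOfEquivOfLe hle).toMonoidHom
      (Subgroup.subgroupOfEquivOfLe hle).surjective
    obtain ⟨⟨_, v, hv, rfl⟩, hg⟩ := IsCyclic.exists_generator (α := M)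
    refine ⟨v, hv, fun y hy => ?_⟩
    obtain ⟨j, hj⟩ := Subgroup.mem_zpowers_iff.1 (hg ⟨π y, y, hy, rfl⟩)
    have hj' : (π v) ^ j = π y := congrArg Subtype.val hj
    rw [← map_zpow] at hj'
    refine ⟨j, ?_⟩
    have h3 : Subgroup.inclusion hR ((v ^ j)⁻¹ * y) ∈ T := by
      rw [← QuotientGroup.eq_one_iff]
      show π ((v ^ j)⁻¹ * y) = 1
      rw [map_mul, map_inv, hj', inv_mul_cancel]
    exact h3

/-- In a saturated supersoluble system `S` is normal. -/
theorem isNormal_of_supersoluble {p : ℕ} [Fact p.Prime] (hS : IsPGroup p S) (hF : F.IsSaturated p)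
    (h : IsSupersoluble F) : F.IsNormal S := by
  refine isNormal_top_of_radicals hS hF fun R hR hc hr => eq_top_of_autS_le_pCore hS hc hr fun α hα => ?_
  obtain ⟨n, U, hU⟩ := cyclicChain_of_supersoluble h hR.1
  have := finite_of_le hR.1
  have hαF := autInducedBy_le_autGroup F le_rfl hR.1 hα
  obtain ⟨k, hk⟩ := isPGroup_autInducedBy hS ⟨α, hα⟩
  refine ⟨⟨α, hαF⟩, hU.pCore_of_pElement (hS.to_le hR.1) ⟨α, hαF⟩ ⟨k, Subtype.ext ?_⟩, rfl⟩
  exact (congrArg Subtype.val hk : _)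

omit [Finite S] in
theorem isSylowIn_inn_sup {p : ℕ} (hS : IsPGroup p S) (H : Subgroup (MulAut S))
    (hH : (Nat.card H).Coprime p) : IsSylowIn p (Cfsg.Inn S) (Cfsg.Inn S ⊔ H) := by
  refine ⟨le_sup_left, isPGroup_inn hS, fun C hIC hCK hC => le_antisymm (fun c hc => ?_) hIC⟩
  have : (Cfsg.Inn S).Normal := Cfsg.innNormal S
  obtain ⟨i, hi, b, hb, rfl⟩ := Subgroup.mem_sup_of_normal_left.1 (hCK hc)
  have hbC : b ∈ C := by
    simpa using mul_mem (inv_mem (hIC hi)) hc
  obtain ⟨k, hk⟩ := hC ⟨b, hbC⟩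
  have h1 : orderOf b ∣ p ^ k := orderOf_dvd_of_pow_eq_one (congrArg Subtype.val hk)
  have h2 : orderOf b = 1 :=
    Nat.eq_one_of_dvd_coprimes ((hH.coprime_dvd_left (Subgroup.orderOf_dvd_natCard H hb)).pow_right k) dvd_rfl h1
  rw [orderOf_eq_one_iff.1 h2, mul_one]
  exact hi

/-- If every saturated system on `S` is supersoluble, `p'`-groups of automorphisms are abelian of exponent
dividing `p - 1`. -/
theorem coprime_aut_abelian {p : ℕ} [Fact p.Prime] (hS : IsPGroup p S)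
    (hall : ∀ F : FusionSystem S, F.IsSaturated p → IsSupersoluble F) (H : Subgroup (MulAut S))
    (hH : (Nat.card H).Coprime p) : IsMulCommutative H ∧ ∀ h ∈ H, h ^ (p - 1) = 1 := by
  let E := autSys S (Cfsg.Inn S ⊔ H) le_sup_left
  obtain ⟨n, U, hU⟩ := cyclicChain_of_supersoluble
    (hall E (isSaturated_autSys hS (isSylowIn_inn_sup hS H hH))) (le_refl S)
  rw [autGroup_autSys] at hU
  have hU' : CyclicChain H n U :=
    ⟨hU.bot, hU.top, hU.mono, hU.normal, fun a ha => hU.inv a (Subgroup.mem_sup_right ha), hU.cyclic⟩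
  exact ⟨⟨⟨hU'.comm hS hH⟩⟩, fun h hh => congrArg Subtype.val (hU'.pow_sub_one hS hH ⟨h, hh⟩)⟩

end Cfsg.Agent.FusionSupersoluble
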